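import Cfsg.Statements.S2772
import Cfsg.Agent.Lib.H19.Cores

/-! # S2772, the case `q = 2` -/

set_option autoImplicit false

namespace Cfsg.Agent.Lib.H5.S2772

theorem q_eq_two {H : Type*} [Group H] [Finite H] (G : Subgroup H)
    (hD : Nonempty (↥G ⧸ Cfsg.pCore 2 ↥G ≃* DihedralGroup 2)) : False := by
  haveI : Fact (Nat.Prime 2) := ⟨Nat.prime_two⟩
  obtain ⟨e⟩ := hD
  set Q : Subgroup ↥G := Cfsg.pCore 2 ↥G with hQ
  have hcardquot : Nat.card (↥G ⧸ Q) = 4 := by
    rw [Nat.card_congr e.toEquiv, DihedralGroup.nat_card]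
  have hcardG : Nat.card G = 4 * Nat.card Q := by
    rw [← hcardquot, mul_comm]
    exact Subgroup.card_eq_card_quotient_mul_card_subgroup Q |>.trans (mul_comm _ _)
  have hQp : IsPGroup 2 Q := Cfsg.Agent.Lib.H19.pCore_isPGroup 2 ↥G
  obtain ⟨a, ha⟩ := IsPGroup.iff_card.1 hQp
  have hGp : IsPGroup 2 ↥G := by
    apply IsPGroup.of_card (n := a + 2)
    rw [hcardG, ha, pow_add]; ring
  have htop : (⊤ : Subgroup ↥G) ≤ Q :=
    Cfsg.Agent.Lib.H19.le_pCore inferInstance (IsPGroup.of_equiv hGp Subgroup.topEquiv.symm)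
  have : Nat.card G ≤ Nat.card Q := by
    have := Subgroup.card_le_of_le htop
    rwa [Subgroup.card_top] at this
  have hpos : 0 < Nat.card Q := Nat.card_pos
  omega

end Cfsg.Agent.Lib.H5.S2772
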