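import Cfsg.Statements.S2772
import Cfsg.Agent.Lib.H5.Sims.Defs
import Cfsg.Agent.Lib.H19.Cores

/-! # S2772, the case `q = 3`: reduction to the Sims core theorem (S3685 pieces) -/

set_option autoImplicit false

namespace Cfsg.Agent.Lib.H5.S2772

open scoped Pointwise
open Cfsg.Agent.Lib.H5.Sims

/-- the conclusion of S3685 for a group `P` (same as `Cfsg.Agent.Lib.H13.Sims.Goal5`) -/
def Goal5' (P : Type*) [Group P] : Prop :=
  Nonempty (P ≃* Multiplicative (ZMod 3)) ∨ Nonempty (P ≃* Equiv.Perm (Fin 3)) ∨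
    Nonempty (P ≃* DihedralGroup 6) ∨ Nonempty (P ≃* Equiv.Perm (Fin 4)) ∨
    Nonempty (P ≃* Equiv.Perm (Fin 4) × Multiplicative (ZMod 2))

variable {H : Type*} [Group H] [Finite H]

/-- `(A1)` for a maximal subgroup of a simple group -/
theorem prim_of_coatom [IsSimpleGroup H] (G : Subgroup H) (hG : IsCoatom G) :
    ∀ X : Subgroup H, X ≤ G → X ≠ ⊥ → G ≤ Subgroup.normalizer (X : Set H) →
      Subgroup.normalizer (X : Set H) ≤ G := by
  intro X hXG hX0 hGN
  rcases eq_or_lt_of_le hGN with h | h
  · exact h.symm.le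
  · exfalso
    have htop : Subgroup.normalizer (X : Set H) = ⊤ := hG.2 _ h
    have hn : X.Normal := Subgroup.normalizer_eq_top_iff.1 htop
    rcases hn.eq_bot_or_eq_top with h0 | h1
    · exact hX0 h0
    · apply hG.1
      rw [eq_top_iff, ← h1]; exact hXG

theorem q_eq_three_of_core [IsSimpleGroup H]
    (core : ∀ S : Setup H, Goal5' S.P)
    (G : Subgroup H) (hG : IsCoatom G)
    (hchar : Subgroup.centralizer (Cfsg.pCore 2 ↥G : Set ↥G) ≤ Cfsg.pCore 2 ↥G) (S : Sylow 2 ↥G)
    (hN : ¬ Subgroup.normalizer (((S : Subgroup ↥G).map G.subtype : Subgroup H) : Set H) ≤ G)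
    (hD : Nonempty (↥G ⧸ Cfsg.pCore 2 ↥G ≃* DihedralGroup 3)) :
    Nonempty (↥G ≃* Equiv.Perm (Fin 4)) ∨
      Nonempty (↥G ≃* Equiv.Perm (Fin 4) × Multiplicative (ZMod 2)) := by
  haveI : Fact (Nat.Prime 2) := ⟨Nat.prime_two⟩
  obtain ⟨e⟩ := hD
  set Q : Subgroup ↥G := Cfsg.pCore 2 ↥G with hQ
  -- cardinalities
  have hcardquot : Nat.card (↥G ⧸ Q) = 6 := by
    rw [Nat.card_congr e.toEquiv, DihedralGroup.nat_card]
  have hcardG : Nat.card G = 6 * Nat.card Q := by
    rw [← hcardquot, mul_comm]
    exact Subgroup.card_eq_card_quotient_mul_card_subgroup Q |>.trans (mul_comm _ _)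
  have hQp : IsPGroup 2 Q := Cfsg.Agent.Lib.H19.pCore_isPGroup 2 ↥G
  obtain ⟨a, ha⟩ := IsPGroup.iff_card.1 hQp
  have hcardS : Nat.card S = 2 ^ (a + 1) := by
    rw [Sylow.card_eq_multiplicity, hcardG, ha]
    have h6 : 6 * 2 ^ a = 2 ^ (a + 1) * 3 := by rw [pow_succ]; ring
    rw [h6, Nat.factorization_mul (by positivity) (by norm_num), Finsupp.add_apply,
      Nat.factorization_pow, Finsupp.smul_apply, Nat.Prime.factorization_self Nat.prime_two]
    have : (Nat.factorization 3) 2 = 0 := by
      rw [Nat.factorization_eq_zero_iff]; right; left; norm_num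
    rw [this]; simp
  have hGS : Nat.card G = 3 * Nat.card S := by
    rw [hcardG, ha, hcardS, pow_succ]; ring
  set S' : Subgroup H := (S : Subgroup ↥G).map G.subtype with hS'
  have hcardS' : Nat.card S' = Nat.card S :=
    Nat.card_congr ((S : Subgroup ↥G).equivMapOfInjective G.subtype G.subtype_injective).symm.toEquiv
  have hS'G : S' ≤ G := by
    rintro x ⟨y, _, rfl⟩
    exact y.2
  -- the element h
  obtain ⟨h, hhN, hhG⟩ := SetLike.not_le_iff_exists.1 hN
  have hprim := prim_of_coatom G hG
  -- `G` is self-normalizing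
  have hG1 : G ≠ ⊥ := by
    intro h0
    have : Nat.card G = 1 := by rw [h0]; exact Subgroup.card_bot
    have hpos : 0 < Nat.card Q := Nat.card_pos
    omega
  have hselfn : Subgroup.normalizer (G : Set H) ≤ G := hprim G le_rfl hG1 Subgroup.le_normalizer
  -- the intersection
  have hS'D : S' ≤ G ⊓ MulAut.conj h • G := by
    refine le_inf hS'G ?_
    intro x hx
    rw [mem_conj_smul]
    apply hS'G
    have := (Subgroup.mem_normalizer_iff''.1 hhN x).1 hx
    exact this
  have hDne : G ⊓ MulAut.conj h • G ≠ G := by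
    intro heq
    apply hhG
    apply hselfn
    have hle : G ≤ MulAut.conj h • G := by
      intro x hx
      have hx' : x ∈ G ⊓ MulAut.conj h • G := by rw [heq]; exact hx
      exact hx'.2
    have heq2 : G = MulAut.conj h • G := by
      apply Subgroup.eq_of_le_of_card_ge hle
      rw [Setup.card_conj_smul]
    rw [Subgroup.mem_normalizer_iff'']
    intro x
    have : x ∈ MulAut.conj h • G ↔ h⁻¹ * x * h ∈ G := mem_conj_smul
    rw [← this, ← heq2]
  have hidx : Nat.card G = 3 * Nat.card ↥(G ⊓ MulAut.conj h • G) := by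
    have h1 : Nat.card S' ∣ Nat.card ↥(G ⊓ MulAut.conj h • G) := Subgroup.card_dvd_of_le hS'D
    have h2 : Nat.card ↥(G ⊓ MulAut.conj h • G) ∣ Nat.card G := Subgroup.card_dvd_of_le inf_le_left
    obtain ⟨k, hk⟩ := h1
    rw [hk, hGS, ← hcardS'] at h2
    have hpos : 0 < Nat.card S' := Nat.card_pos
    have h3 : k ∣ 3 := by
      have : Nat.card S' * k ∣ Nat.card S' * 3 := by rwa [mul_comm 3] at h2
      exact (Nat.mul_dvd_mul_iff_left hpos).1 this
    rcases (Nat.dvd_prime Nat.prime_three).1 h3 with h31 | h33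
    · rw [hk, h31, mul_one, hGS, hcardS']
    · exfalso
      apply hDne
      apply Subgroup.eq_of_le_of_card_ge inf_le_left
      rw [hk, h33, hGS, hcardS', mul_comm]
  -- the core theorem
  have hgoal := core ⟨G, h, hprim, hidx⟩
  change Goal5' ↥G at hgoal
  have hposQ : 0 < Nat.card Q := Nat.card_pos
  rcases hgoal with ⟨⟨e1⟩⟩ | ⟨⟨e2⟩⟩ | ⟨⟨e3⟩⟩ | h4
  · exfalso
    have : Nat.card G = 3 := by
      rw [Nat.card_congr e1.toEquiv]; simp [Nat.card_eq_fintype_card]
    omega
  · exfalso
    have hc : Nat.card G = 6 := by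
      rw [Nat.card_congr e2.toEquiv, Nat.card_eq_fintype_card, Fintype.card_perm]; rfl
    have hQ1 : Nat.card Q = 1 := by omega
    have hQbot : Q = ⊥ := Subgroup.card_eq_one.1 hQ1
    have htop : (⊤ : Subgroup ↥G) ≤ Q := by
      intro x _
      apply hchar
      rw [hQbot, Subgroup.mem_centralizer_iff]
      intro y hy
      have : y = 1 := by simpa using hy
      rw [this]; simp
    have : Nat.card G ≤ Nat.card Q := by
      have := Subgroup.card_le_of_le htop
      rwa [Subgroup.card_top] at this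
    omega
  · exfalso
    have hc : Nat.card G = 12 := by
      rw [Nat.card_congr e3.toEquiv, DihedralGroup.nat_card]
    have hQ2 : Nat.card Q = 2 := by omega
    -- a normal subgroup of order 2 is central
    have hQn : Q.Normal := inferInstance
    have htop : (⊤ : Subgroup ↥G) ≤ Q := by
      intro x _
      apply hchar
      rw [Subgroup.mem_centralizer_iff]
      intro y hy
      by_cases hy1 : y = 1
      · rw [hy1]; simp
      · have hconj : x * y * x⁻¹ ∈ Q := hQn.conj_mem y hy x
        obtain ⟨z, _, hz2⟩ := (Nat.card_eq_two_iff' (1 : Q)).1 hQ2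
        have h1 : (⟨y, hy⟩ : Q) = z := hz2 _ (by intro h'; exact hy1 (congrArg Subtype.val h'))
        have hne : x * y * x⁻¹ ≠ 1 := by
          intro h'
          apply hy1
          have : x⁻¹ * (x * y * x⁻¹) * x = x⁻¹ * 1 * x := by rw [h']
          simpa [mul_assoc] using this
        have h2 : (⟨x * y * x⁻¹, hconj⟩ : Q) = z :=
          hz2 _ (by intro h'; exact hne (congrArg Subtype.val h'))
        have h3 : x * y * x⁻¹ = y := congrArg Subtype.val (h2.trans h1.symm)
        have : x * y * x⁻¹ * x = y * x := by rw [h3]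
        simpa [mul_assoc] using this.symm
    have : Nat.card G ≤ Nat.card Q := by
      have := Subgroup.card_le_of_le htop
      rwa [Subgroup.card_top] at this
    omega
  · exact h4

end Cfsg.Agent.Lib.H5.S2772
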